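import Mathlib.GroupTheory.Transfer
import Mathlib.GroupTheory.Sylow
import Mathlib.GroupTheory.Abelianization.Defs

/-!
Grün's first theorem.
-/

set_option autoImplicit false
set_option linter.style.haveILetI false

namespace CfsgLib.Grun

open Subgroup MulAction
open scoped commutatorElement

variable {G : Type*} [Group G]

/-- A finite product of values of two homomorphisms is attained at one element. -/
theorem exists_prod_eq {Q A B I : Type*} [Group Q] [CommGroup A] [CommGroup B] (ψ : Q →* A)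
    (ι : Q →* B) (T : Finset I) (y : I → Q) :
    ∃ z : Q, ψ z = ∏ i ∈ T, ψ (y i) ∧ ι z = ∏ i ∈ T, ι (y i) := by
  classical
  induction T using Finset.induction_on with
  | empty => exact ⟨1, by simp, by simp⟩
  | insert i T hi ih =>
    obtain ⟨z, h1, h2⟩ := ih
    exact ⟨y i * z, by rw [map_mul, h1, Finset.prod_insert hi],
      by rw [map_mul, h2, Finset.prod_insert hi]⟩

variable [Finite G] {p : ℕ} [hp : Fact p.Prime]

/-- Grün's first theorem, in the form used: a normal subgroup `R` of `P` with abelian quotient which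
contains `P ∩ N'` and the `P ∩ (P')^z` contains `P ∩ G'`. -/
theorem inf_commutator_le (P : Sylow p G) (R : Subgroup G)
    (hN : (P : Subgroup G) ⊓ ⁅Subgroup.normalizer ((P : Subgroup G) : Set G),
      Subgroup.normalizer ((P : Subgroup G) : Set G)⁆ ≤ R)
    (hc : ∀ z : G, (P : Subgroup G) ⊓ (⁅(P : Subgroup G), (P : Subgroup G)⁆).map
      (MulAut.conj z).toMonoidHom ≤ R) :
    (P : Subgroup G) ⊓ commutator G ≤ R := by
  classical
  set H : Subgroup G := (P : Subgroup G) with hH
  have hHp : IsPGroup p H := P.2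
  have hder : ⁅H, H⁆ ≤ H ⊓ R := by
    refine le_inf (commutator_le_self H) fun c hc' => ?_
    exact hc 1 ⟨commutator_le_self H hc', c, hc', by simp⟩
  set R₀ : Subgroup H := R.subgroupOf H with hR₀
  have hR₀n : R₀.Normal := ⟨fun m hm g => by
    rw [hR₀, mem_subgroupOf] at hm ⊢
    have h1 : ⁅(g : G), (m : G)⁆ ∈ R :=
      (hder (commutator_mem_commutator g.2 m.2)).2
    simpa [commutatorElement_def, mul_assoc] using R.mul_mem h1 hm⟩
  have hcomm : ∀ a b : H ⧸ R₀, a * b = b * a := by
    have hle : commutator H ≤ R₀ := by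
      rw [hR₀, Subgroup.subgroupOf, ← map_le_iff_le_comap, _root_.commutator_def, map_commutator]
      simpa [range_subtype, ← MonoidHom.range_eq_map] using hder.trans inf_le_right
    exact (Normal.quotient_commutative_iff_commutator_le.2 hle).is_comm.comm
  letI : CommGroup (H ⧸ R₀) := { (inferInstance : Group (H ⧸ R₀)) with mul_comm := hcomm }
  set φ : H →* H ⧸ R₀ := QuotientGroup.mk' R₀ with hφ
  have hker : ∀ (u : G) (hu : u ∈ H), u ∈ R → φ ⟨u, hu⟩ = 1 := fun u hu h =>
    (QuotientGroup.eq_one_iff _).2 h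
  suffices key : ∀ n : ℕ, ∀ x : G, orderOf x = n → x ∈ H → x ∈ commutator G → x ∈ R from
    fun x hx => key _ x rfl hx.1 hx.2
  intro n
  induction n using Nat.strong_induction_on with
  | _ n ih =>
  intro x hxn hxH hxG
  by_cases hx1 : x = 1
  · rw [hx1]; exact one_mem R
  haveI := Fintype.ofFinite G
  haveI := Fintype.ofFinite (G ⧸ H)
  haveI := Fintype.ofFinite (Quotient (orbitRel (zpowers x) (G ⧸ H)))
  haveI := Fintype.ofFinite (Quotient (orbitRel H (G ⧸ H)))
  obtain ⟨a, ha⟩ := IsPGroup.iff_orderOf.1 hHp ⟨x, hxH⟩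
  rw [← orderOf_coe] at ha
  change orderOf x = p ^ a at ha
  have hV : MonoidHom.transfer φ x = 1 :=
    Abelianization.commutator_subset_ker (MonoidHom.transfer φ) hxG
  rw [MonoidHom.transfer_eq_prod_quotient_orbitRel_zpowers_quot] at hV
  let f : Quotient (orbitRel (zpowers x) (G ⧸ H)) → Quotient (orbitRel H (G ⧸ H)) :=
    fun q => Quotient.mk'' q.out
  have hf : ∀ z : G ⧸ H, f (Quotient.mk'' z) = Quotient.mk'' z := by
    intro z
    refine Quotient.sound' ?_
    have h1 : (Quotient.mk'' z : Quotient (orbitRel (zpowers x) (G ⧸ H))).out ∈ orbit (zpowers x) z :=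
      orbitRel_apply.1 (Quotient.exact' (Quotient.out_eq' _))
    obtain ⟨w, hw⟩ := h1
    refine orbitRel_apply.2 ⟨⟨w, zpowers_le.2 hxH w.2⟩, ?_⟩
    rw [← hw]
    rfl
  rw [← Finset.prod_fiberwise Finset.univ f] at hV
  have hO : ∀ O : Quotient (orbitRel H (G ⧸ H)),
      ∏ q ∈ Finset.univ.filter (fun q => f q = O),
        φ ⟨q.out.out⁻¹ * x ^ Function.minimalPeriod (x • ·) q.out * q.out.out,
          QuotientGroup.out_conj_pow_minimalPeriod_mem H x q.out⟩ =
      if O.out ∈ fixedPoints H (G ⧸ H) then φ ⟨x, hxH⟩ else 1 := by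
    intro O
    set t : G := O.out.out with ht
    have ht' : (t : G ⧸ H) = O.out := QuotientGroup.out_eq' _
    set Q : Subgroup H := (H.comap (MulAut.conj t⁻¹).toMonoidHom).subgroupOf H with hQdef
    have hQmem : ∀ y : H, y ∈ Q ↔ t⁻¹ * (y : G) * t ∈ H := by
      intro y
      simp [hQdef, mem_subgroupOf]
    let ψ : Q →* H ⧸ R₀ :=
      { toFun := fun y => φ ⟨t⁻¹ * ((y : H) : G) * t, (hQmem y).1 y.2⟩
        map_one' := by
          simp only [OneMemClass.coe_one, mul_one, inv_mul_cancel]
          exact map_one φ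
        map_mul' := fun y y' => by
          rw [← map_mul]
          congr 1
          ext
          simp [mul_assoc] }
    let ι : Q →* Abelianization H := Abelianization.of.comp Q.subtype
    set F := Finset.univ.filter (fun q : Quotient (orbitRel (zpowers x) (G ⧸ H)) => f q = O) with hF
    have hy : ∀ q : Quotient (orbitRel (zpowers x) (G ⧸ H)), ∃ y : Q, q ∈ F →
        ψ y = φ ⟨q.out.out⁻¹ * x ^ Function.minimalPeriod (x • ·) q.out * q.out.out,
          QuotientGroup.out_conj_pow_minimalPeriod_mem H x q.out⟩ ∧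
        ι y = Abelianization.of (⟨x, hxH⟩ : H) ^ Function.minimalPeriod (x • ·) q.out := by
      intro q
      by_cases hq : q ∈ F
      swap
      · exact ⟨1, fun h => absurd h hq⟩
      set g : G := q.out.out with hg
      set r : ℕ := Function.minimalPeriod (x • ·) q.out with hr
      have he : g⁻¹ * x ^ r * g ∈ H := QuotientGroup.out_conj_pow_minimalPeriod_mem H x q.out
      have hmem : q.out ∈ orbit H O.out := by
        have h1 : (Quotient.mk'' q.out : Quotient (orbitRel H (G ⧸ H))) = Quotient.mk'' O.out := by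
          rw [Quotient.out_eq']
          exact (Finset.mem_filter.1 hq).2
        exact orbitRel_apply.1 (Quotient.exact' h1)
      obtain ⟨v, hv⟩ := hmem
      have hw : (v * t : G)⁻¹ * g ∈ H := by
        rw [← QuotientGroup.eq, hg, QuotientGroup.out_eq', ← hv]
        change ((v : G) * t : G ⧸ H) = (v : G) • O.out
        rw [← ht']
        rfl
      set w : H := ⟨(v * t : G)⁻¹ * g, hw⟩
      have hconj : t⁻¹ * ((v : G)⁻¹ * x ^ r * v) * t =
          ((w * ⟨g⁻¹ * x ^ r * g, he⟩ * w⁻¹ : H) : G) := by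
        simp only [w, Subgroup.coe_mul, Subgroup.coe_inv]
        group
      have hyH : (v : G)⁻¹ * x ^ r * v ∈ H := mul_mem (mul_mem (inv_mem v.2) (pow_mem hxH r)) v.2
      refine ⟨⟨⟨_, hyH⟩, (hQmem _).2 (by rw [hconj]; exact SetLike.coe_mem _)⟩, fun _ => ⟨?_, ?_⟩⟩
      · have h1 : (⟨t⁻¹ * ((v : G)⁻¹ * x ^ r * v) * t, by rw [hconj]; exact SetLike.coe_mem _⟩ : H) =
            w * ⟨g⁻¹ * x ^ r * g, he⟩ * w⁻¹ := Subtype.ext hconj
        change φ (⟨t⁻¹ * ((v : G)⁻¹ * x ^ r * v) * t, _⟩ : H) = _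
        rw [h1, map_mul, map_mul, map_inv, mul_inv_cancel_comm]
      · have h1 : (⟨(v : G)⁻¹ * x ^ r * v, hyH⟩ : H) = v⁻¹ * (⟨x, hxH⟩ : H) ^ r * v :=
          Subtype.ext (by simp)
        change Abelianization.of (⟨(v : G)⁻¹ * x ^ r * v, hyH⟩ : H) = _
        rw [h1, map_mul, map_mul, map_inv, inv_mul_cancel_comm, map_pow]
    choose y hy using hy
    obtain ⟨z, hz1, hz2⟩ := exists_prod_eq ψ ι F y
    rw [Finset.prod_congr rfl fun q hq => (hy q hq).1] at hz1
    rw [Finset.prod_congr rfl fun q hq => (hy q hq).2, Finset.prod_pow_eq_pow_sum] at hz2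
    rw [← hz1]
    -- the sum of the periods is the size of the orbit
    set Os := Finset.univ.filter (fun z : G ⧸ H => z ∈ orbit H O.out) with hOs
    have hsum : ∑ q ∈ F, Function.minimalPeriod (x • ·) q.out = Os.card := by
      have hmem : ∀ z : G ⧸ H, z ∈ orbit H O.out ↔ f (Quotient.mk'' z) = O := by
        intro z
        rw [hf]
        constructor
        · intro h
          exact (Quotient.sound' (orbitRel_apply.2 h)).trans (Quotient.out_eq' O)
        · intro h
          exact orbitRel_apply.1 (Quotient.exact' (h.trans (Quotient.out_eq' O).symm))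
      rw [Finset.card_eq_sum_card_fiberwise (s := Os) (t := F)
        (f := fun z => (Quotient.mk'' z : Quotient (orbitRel (zpowers x) (G ⧸ H))))
        fun z hz => Finset.mem_filter.2 ⟨Finset.mem_univ _, (hmem z).1 (Finset.mem_filter.1 hz).2⟩]
      refine Finset.sum_congr rfl fun q hq => ?_
      have h1 : Os.filter (fun z => (Quotient.mk'' z : Quotient (orbitRel (zpowers x) (G ⧸ H))) = q) =
          (orbit (zpowers x) q.out).toFinset := by
        ext z
        simp only [Finset.mem_filter, Set.mem_toFinset, hOs, Finset.mem_univ, true_and]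
        constructor
        · rintro ⟨-, h⟩
          exact orbitRel_apply.1 (Quotient.exact' (h.trans (Quotient.out_eq' q).symm))
        · intro h
          have h2 : (Quotient.mk'' z : Quotient (orbitRel (zpowers x) (G ⧸ H))) = q :=
            (Quotient.sound' (orbitRel_apply.2 h)).trans (Quotient.out_eq' q)
          exact ⟨(hmem z).2 (h2 ▸ (Finset.mem_filter.1 hq).2), h2⟩
      rw [h1, Set.toFinset_card]; exact MulAction.minimalPeriod_eq_card (a := x) (b := q.out)
    rw [hsum] at hz2
    -- `x` to that power is in `Q`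
    obtain ⟨b, hb⟩ : ∃ b, Os.card = p ^ b := by
      obtain ⟨b, hb⟩ := hHp.card_orbit O.out
      refine ⟨b, ?_⟩
      rw [← hb, Nat.card_eq_fintype_card, ← Set.toFinset_card]
      congr 1
      ext z
      simp [hOs]
    have hfix : O.out ∈ fixedPoints H (G ⧸ H) ↔ b = 0 := by
      constructor
      · intro h
        have : Os.card ≤ 1 := Finset.card_le_one.2 fun z1 h1 z2 h2 => by
          obtain ⟨v1, hv1⟩ := (Finset.mem_filter.1 h1).2
          obtain ⟨v2, hv2⟩ := (Finset.mem_filter.1 h2).2
          rw [← hv1, ← hv2]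
          exact (mem_fixedPoints.1 h v1).trans (mem_fixedPoints.1 h v2).symm
        by_contra hb0
        have := Nat.one_lt_pow hb0 hp.out.one_lt
        omega
      · intro h v
        rw [h, pow_zero] at hb
        exact Finset.card_le_one.1 hb.le _ (Finset.mem_filter.2 ⟨Finset.mem_univ _, mem_orbit _ v⟩) _
          (Finset.mem_filter.2 ⟨Finset.mem_univ _, mem_orbit_self _⟩)
    have hxQ : t⁻¹ * x ^ (p ^ b) * t ∈ H := by
      set r := Function.minimalPeriod (x • ·) O.out with hr
      have hrle : r ≤ p ^ b := by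
        rw [← hb, hr, MulAction.minimalPeriod_eq_card, ← Set.toFinset_card]
        refine Finset.card_le_card fun z hz => Finset.mem_filter.2 ⟨Finset.mem_univ _, ?_⟩
        obtain ⟨w, hw⟩ := Set.mem_toFinset.1 hz
        exact ⟨⟨w, zpowers_le.2 hxH w.2⟩, hw⟩
      have hrp : r ∣ p ^ a := by
        rw [hr, ← MulAction.pow_smul_eq_iff_minimalPeriod_dvd, ← ha, pow_orderOf_eq_one, one_smul]
      obtain ⟨c, -, hc'⟩ := (Nat.dvd_prime_pow hp.out).1 hrp
      have hdvd : r ∣ p ^ b := by
        rw [hc'] at hrle ⊢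
        exact pow_dvd_pow p ((Nat.pow_le_pow_iff_right hp.out.one_lt).1 hrle)
      have h1 : x ^ (p ^ b) • O.out = O.out := MulAction.pow_smul_eq_iff_minimalPeriod_dvd.2 hdvd
      rw [← ht'] at h1
      have h2 : ((x ^ (p ^ b) * t : G) : G ⧸ H) = (t : G ⧸ H) := h1
      have h3 := QuotientGroup.eq.1 h2.symm
      rwa [← mul_assoc] at h3
    set c : G := (x ^ (p ^ b))⁻¹ * ((z : H) : G) with hcdef
    have hcder : c ∈ ⁅H, H⁆ := by
      have h1 : ((⟨x, hxH⟩ : H) ^ (p ^ b))⁻¹ * (z : H) ∈ commutator H := by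
        rw [← Abelianization.ker_of (G := H), MonoidHom.mem_ker, map_mul, map_inv, map_pow, ← hb]
        rw [show Abelianization.of (z : H) = ι z from rfl, hz2, inv_mul_cancel]
      have h2 := mem_map_of_mem H.subtype h1
      rw [_root_.commutator_def, map_commutator] at h2
      simpa [range_subtype, ← MonoidHom.range_eq_map] using h2
    have hz : t⁻¹ * ((z : H) : G) * t ∈ H := (hQmem z).1 z.2
    have hcR : t⁻¹ * c * t ∈ H ∧ t⁻¹ * c * t ∈ R := by
      have h1 : t⁻¹ * c * t = (t⁻¹ * x ^ (p ^ b) * t)⁻¹ * (t⁻¹ * ((z : H) : G) * t) := by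
        rw [hcdef]; group
      have h2 : t⁻¹ * c * t ∈ H := h1 ▸ mul_mem (inv_mem hxQ) hz
      exact ⟨h2, hc t⁻¹ ⟨h2, c, hcder, by simp⟩⟩
    have hsplit : ψ z = φ ⟨t⁻¹ * x ^ (p ^ b) * t, hxQ⟩ := by
      have h1 : (⟨t⁻¹ * ((z : H) : G) * t, hz⟩ : H) =
          ⟨t⁻¹ * x ^ (p ^ b) * t, hxQ⟩ * ⟨t⁻¹ * c * t, hcR.1⟩ := by
        refine Subtype.ext ?_
        simp only [Subgroup.coe_mul, hcdef]
        group
      change φ (⟨t⁻¹ * ((z : H) : G) * t, hz⟩ : H) = _
      rw [h1, map_mul, hker _ hcR.1 hcR.2, mul_one]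
    rw [hsplit]
    split_ifs with h
    · have hb0 := hfix.1 h
      subst hb0
      simp only [pow_zero, pow_one]
      have htN : t ∈ Subgroup.normalizer (H : Set G) := by
        have h' : ∀ v ∈ H, t⁻¹ * v * t ∈ H := fun v hv => by
          have h1 := mem_fixedPoints.1 h ⟨v, hv⟩
          rw [← ht'] at h1
          have h2 : ((v * t : G) : G ⧸ H) = (t : G ⧸ H) := h1
          have h3 := QuotientGroup.eq.1 h2.symm
          rwa [← mul_assoc] at h3
        have hEq : H.map (MulAut.conj t⁻¹).toMonoidHom = H := by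
          refine eq_of_le_of_card_ge ?_ (le_of_eq (card_map_of_injective (MulEquiv.injective _)).symm)
          rintro _ ⟨v, hv, rfl⟩
          simpa using h' v hv
        rw [← inv_mem_iff, Subgroup.mem_normalizer_iff]
        intro v
        constructor
        · intro hv; simpa using h' v hv
        · intro hv
          rw [← hEq] at hv
          obtain ⟨u, hu, hu'⟩ := hv
          simp at hu'
          exact hu' ▸ hu
      have h1 : t⁻¹ * x * t * x⁻¹ ∈ R := by
        refine hN ⟨H.mul_mem (by simpa using hxQ) (H.inv_mem hxH), ?_⟩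
        have h2 : ⁅t⁻¹, x⁆ ∈ ⁅Subgroup.normalizer (H : Set G), Subgroup.normalizer (H : Set G)⁆ :=
          commutator_mem_commutator (inv_mem htN) (le_normalizer hxH)
        simpa [commutatorElement_def, mul_assoc] using h2
      have h2 : (⟨t⁻¹ * x * t, by simpa using hxQ⟩ : H) =
          ⟨t⁻¹ * x * t * x⁻¹, mul_mem (by simpa using hxQ) (inv_mem hxH)⟩ * ⟨x, hxH⟩ :=
        Subtype.ext (by simp)
      rw [h2, map_mul, hker _ _ h1, one_mul]
    · have hb0 : b ≠ 0 := fun e => h (hfix.2 e)
      refine hker _ _ (ih _ ?_ _ rfl hxQ ?_)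
      · rw [← hxn]
        have hord : orderOf (t⁻¹ * x ^ (p ^ b) * t) = orderOf (x ^ (p ^ b)) := by
          have := orderOf_injective (MulAut.conj t⁻¹).toMonoidHom (MulEquiv.injective _) (x ^ (p ^ b))
          simpa using this
        rw [hord, orderOf_pow' x (pow_ne_zero _ hp.out.ne_zero), ha]
        have ha0 : a ≠ 0 := fun e => hx1 (orderOf_eq_one_iff.1 (by rw [ha, e, pow_zero]))
        refine Nat.div_lt_self (pow_pos hp.out.pos _) ?_
        exact lt_of_lt_of_le hp.out.one_lt (Nat.le_of_dvd (Nat.gcd_pos_of_pos_left _ (pow_pos hp.out.pos _))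
          (Nat.dvd_gcd (dvd_pow_self p ha0) (dvd_pow_self p hb0)))
      · have := (inferInstance : (commutator G).Normal).conj_mem _ (pow_mem hxG (p ^ b)) t⁻¹
        simpa using this
  rw [Finset.prod_congr rfl fun O _ => hO O, Finset.prod_ite, Finset.prod_const_one, mul_one,
    Finset.prod_const] at hV
  have hfix : (Finset.univ.filter fun O : Quotient (orbitRel H (G ⧸ H)) =>
      O.out ∈ fixedPoints H (G ⧸ H)).card = Nat.card (fixedPoints H (G ⧸ H)) := by
    rw [Nat.card_eq_fintype_card, ← Set.toFinset_card]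
    refine Finset.card_bij (fun O _ => O.out) (fun O hO => Set.mem_toFinset.2 (Finset.mem_filter.1 hO).2)
      (fun O _ O' _ e => by rw [← Quotient.out_eq' O, e, Quotient.out_eq']) fun z hz => ?_
    have hz' := Set.mem_toFinset.1 hz
    have h1 : (Quotient.mk'' z : Quotient (orbitRel H (G ⧸ H))).out = z := by
      obtain ⟨v, hv⟩ := orbitRel_apply.1 (Quotient.exact'
        (Quotient.out_eq' (Quotient.mk'' z : Quotient (orbitRel H (G ⧸ H)))))
      rw [← hv]
      exact mem_fixedPoints.1 hz' v
    exact ⟨Quotient.mk'' z, Finset.mem_filter.2 ⟨Finset.mem_univ _, h1.symm ▸ hz'⟩, h1⟩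
  rw [hfix] at hV
  have hcop : Nat.Coprime (orderOf x) (Nat.card (fixedPoints H (G ⧸ H))) := by
    rw [ha]
    refine Nat.Coprime.pow_left _ (hp.out.coprime_iff_not_dvd.2 fun h => P.not_dvd_index ?_)
    have hm := hHp.card_modEq_card_fixedPoints (G ⧸ H)
    rw [← index_eq_card] at hm
    exact (Nat.ModEq.dvd_iff hm dvd_rfl).2 h
  have h1 : φ ⟨x, hxH⟩ = 1 := by
    refine orderOf_eq_one_iff.1 (Nat.eq_one_of_dvd_coprimes hcop ?_ (orderOf_dvd_of_pow_eq_one hV))
    refine (orderOf_map_dvd φ _).trans (dvd_of_eq ?_)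
    rw [← orderOf_coe]
  exact (QuotientGroup.eq_one_iff (N := R₀) (⟨x, hxH⟩ : H)).1 h1

/-- **Grün's first theorem.** -/
theorem gruen_first (P : Sylow p G) :
    (P : Subgroup G) ⊓ commutator G =
      ((P : Subgroup G) ⊓ ⁅Subgroup.normalizer ((P : Subgroup G) : Set G),
        Subgroup.normalizer ((P : Subgroup G) : Set G)⁆) ⊔
      ⨆ z : G, (P : Subgroup G) ⊓ (⁅(P : Subgroup G), (P : Subgroup G)⁆).map
        (MulAut.conj z).toMonoidHom := by
  refine le_antisymm (inf_commutator_le P _ le_sup_left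
    fun z => le_sup_of_le_right (le_iSup (fun z : G => (P : Subgroup G) ⊓ (⁅(P : Subgroup G), (P : Subgroup G)⁆).map (MulAut.conj z).toMonoidHom) z)) ?_
  refine sup_le (inf_le_inf le_rfl (commutator_mono le_top le_top))
    (iSup_le fun z => inf_le_inf le_rfl ?_)
  rw [map_commutator]
  exact commutator_mono le_top le_top

end CfsgLib.Grun
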